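import Mathlib
import Cfsg.Agent.S0076

/-!
# S1936, module [TSTR] (helper75): the structure of an abelian Sylow 2-subgroup `T` when all
involutions are conjugate and `N(T)/C(T)` is a `p`-group

Self-contained: `G` is any finite group.
-/

set_option autoImplicit false

namespace Cfsg.Agent.Lib.Helper75.S1936Tstr

open Subgroup

variable {G : Type*} [Group G] [Finite G]

omit [Finite G] in
/-- Conjugation by an element of the normalizer preserves the order (in the subgroup). -/
theorem orderOf_smul (T : Subgroup G) (n : ↥(normalizer (T : Set G))) (a : ↥T) :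
    orderOf (n • a) = orderOf a := by
  have h : n • a = T.normalizerMonoidHom n a := rfl
  rw [h, MulEquiv.orderOf_eq]

omit [Finite G] in
theorem coe_smul (T : Subgroup G) (n : ↥(normalizer (T : Set G))) (a : ↥T) :
    ((n • a : ↥T) : G) = (n : G) * (a : G) * (n : G)⁻¹ := rfl

/-- Burnside: in an abelian Sylow subgroup, `G`-conjugate elements are `N(T)`-conjugate. -/
theorem exists_smul_eq {q : ℕ} [Fact q.Prime] (T : Sylow q G)
    (hTc : ∀ x ∈ T, ∀ y ∈ T, x * y = y * x) (a b : ↥(T : Subgroup G))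
    (hab : IsConj (a : G) (b : G)) :
    ∃ n : ↥(normalizer ((T : Subgroup G) : Set G)), n • a = b := by
  obtain ⟨g, hg⟩ := isConj_iff.mp hab
  have hfix : ∀ c : ↥(T : Subgroup G), ∀ x ∈ T, (fun y => x * y * x⁻¹) '' ({(c : G)} : Set G) = {(c : G)} := by
    intro c x hx
    rw [Set.image_singleton, hTc x hx c c.2, mul_inv_cancel_right]
  obtain ⟨n, hn, hn'⟩ := Cfsg.Agent.S0076.result T {(a : G)} {(b : G)}
    (Set.singleton_subset_iff.mpr a.2) (Set.singleton_subset_iff.mpr b.2) (hfix a) (hfix b) g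
    (by rw [Set.image_singleton, hg])
  rw [Set.image_singleton, Set.singleton_eq_singleton_iff] at hn'
  exact ⟨⟨n, hn⟩, Subtype.ext hn'⟩

omit [Finite G] in
/-- An element with `t * t = 1`, `t ≠ 1` has order two. -/
theorem orderOf_eq_two_iff {H : Type*} [Group H] (t : H) : orderOf t = 2 ↔ t * t = 1 ∧ t ≠ 1 := by
  constructor
  · intro h
    refine ⟨?_, ?_⟩
    · rw [← pow_two, ← h, pow_orderOf_eq_one]
    · rintro rfl
      rw [orderOf_one] at h
      omega
  · rintro ⟨h1, h2⟩
    have : Fact (Nat.Prime 2) := ⟨Nat.prime_two⟩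
    exact orderOf_eq_prime (by rw [pow_two, h1]) h2

/-- `p²` does not divide `(p + 1)!`. -/
theorem not_sq_dvd_factorial {p : ℕ} (hp : p.Prime) : ¬ p ^ 2 ∣ (p + 1).factorial := by
  intro h
  have h1 : (p + 1).factorial = p * ((p + 1) * (p - 1).factorial) := by
    have hp1 : p = (p - 1) + 1 := by have := hp.one_lt; omega
    rw [Nat.factorial_succ]
    conv_lhs => rw [hp1, Nat.factorial_succ]
    rw [← hp1]
    ring
  rw [h1, pow_two] at h
  have h2 : p ∣ (p + 1) * (p - 1).factorial := Nat.dvd_of_mul_dvd_mul_left hp.pos h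
  rcases (Nat.Prime.dvd_mul hp).mp h2 with h3 | h3
  · have : p ∣ 1 := (Nat.dvd_add_right (dvd_refl p)).mp h3
    exact hp.one_lt.ne' (Nat.dvd_one.mp this)
  · have := (Nat.Prime.dvd_factorial hp).mp h3
    have := hp.one_lt
    omega

/-- **[TSTR]** (C2–C5 of the S1936 sheet, without (★)), with `N(T)`-transitivity on the involutions
of `T` as a hypothesis. -/
theorem tstr_core (p : ℕ) [Fact p.Prime] (T : Sylow 2 G)
    (hTc : ∀ x ∈ T, ∀ y ∈ T, x * y = y * x)
    (hexp : ∀ t ∈ T, t ^ (p - 1) = 1)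
    (hB1 : ∀ x ∈ normalizer ((T : Subgroup G) : Set G),
      ∃ n : ℕ, x ^ (p ^ n) ∈ centralizer ((T : Subgroup G) : Set G))
    (htr : ∀ a ∈ (T : Subgroup G), ∀ b ∈ (T : Subgroup G), orderOf a = 2 → orderOf b = 2 →
      ∃ n ∈ normalizer ((T : Subgroup G) : Set G), n * a * n⁻¹ = b)
    (hk : 8 ≤ Nat.card {t : G // t ∈ T ∧ t * t = 1})
    (hNT : ∀ k j : ℕ, 3 ≤ k → 2 ^ k - 1 = p ^ j → j = 1 ∧ p % 4 = 3) :
    (∀ t ∈ T, t * t = 1) ∧ Nat.card ↥(T : Subgroup G) = p + 1 ∧
    (centralizer ((T : Subgroup G) : Set G)).relIndex (normalizer ((T : Subgroup G) : Set G)) = p ∧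
    ∀ a ∈ T, a ≠ 1 → normalizer ((T : Subgroup G) : Set G) ⊓ centralizer {a} =
      centralizer ((T : Subgroup G) : Set G) := by
  classical
  have hp : p.Prime := Fact.out
  -- the subgroup `A = Ω₁(T)` of `T`
  let A : Subgroup ↥(T : Subgroup G) :=
    { carrier := {t | t * t = 1}
      mul_mem' := by
        intro x y hx hy
        have hc : y * x = x * y := Subtype.ext (hTc y y.2 x x.2)
        show x * y * (x * y) = 1
        calc x * y * (x * y) = x * (y * x) * y := by group
          _ = x * (x * y) * y := by rw [hc]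
          _ = (x * x) * (y * y) := by group
          _ = 1 := by rw [hx, hy, one_mul]
      one_mem' := by show (1 : ↥(T : Subgroup G)) * 1 = 1; rw [mul_one]
      inv_mem' := by
        intro x hx
        show x⁻¹ * x⁻¹ = 1
        rw [← mul_inv_rev, hx, inv_one] }
  have hA_mem : ∀ t : ↥(T : Subgroup G), t ∈ A ↔ t * t = 1 := fun t => Iff.rfl
  -- `|A| = 2^k`, `k ≥ 3`
  obtain ⟨k, hkA⟩ := (T.2.to_subgroup A).exists_card_eq
  have hAcard : Nat.card {t : G // t ∈ T ∧ t * t = 1} = Nat.card ↥A := by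
    apply Nat.card_congr
    refine ⟨fun t => ⟨⟨t.1, t.2.1⟩, Subtype.ext t.2.2⟩, fun t => ⟨t.1.1, t.1.2, congrArg Subtype.val t.2⟩,
      fun t => rfl, fun t => rfl⟩
  have hk3 : 3 ≤ k := by
    rw [hAcard, hkA] at hk
    by_contra hlt
    have : k ≤ 2 := by omega
    have := Nat.pow_le_pow_right (show 0 < 2 by norm_num) this
    omega
  -- an involution `a0` of `T`
  obtain ⟨a0, ha0⟩ : ∃ a0 : ↥(T : Subgroup G), orderOf a0 = 2 := by
    have h1 : 1 < Nat.card ↥A := by
      rw [hkA]
      exact Nat.one_lt_two_pow (by omega)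
    have : Nontrivial ↥A := (Finite.one_lt_card_iff_nontrivial).mp h1
    obtain ⟨t, ht⟩ := exists_ne (1 : ↥A)
    refine ⟨t.1, (orderOf_eq_two_iff _).mpr ⟨t.2, fun h => ht (Subtype.ext h)⟩⟩
  -- the orbit of `a0` under `N(T)` is the set of involutions
  have horb : MulAction.orbit ↥(normalizer ((T : Subgroup G) : Set G)) a0 =
      {t : ↥(T : Subgroup G) | orderOf t = 2} := by
    ext t
    constructor
    · rintro ⟨n, rfl⟩
      show orderOf (n • a0) = 2
      rw [orderOf_smul, ha0]
    · intro ht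
      have ht' : orderOf t = 2 := ht
      obtain ⟨n, hn, hnab⟩ := htr a0.1 a0.2 t.1 t.2 (by rw [Subgroup.orderOf_coe, ha0])
        (by rw [Subgroup.orderOf_coe, ht'])
      exact ⟨⟨n, hn⟩, Subtype.ext hnab⟩
  -- the kernel `C(T)` of the action has `p`-power index in `N(T)`
  have hker : (T : Subgroup G).normalizerMonoidHom.ker =
      (centralizer ((T : Subgroup G) : Set G)).subgroupOf (normalizer ((T : Subgroup G) : Set G)) :=
    normalizerMonoidHom_ker _
  have hPQ : IsPGroup p (↥(normalizer ((T : Subgroup G) : Set G)) ⧸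
      (T : Subgroup G).normalizerMonoidHom.ker) := by
    intro x
    obtain ⟨n, rfl⟩ := QuotientGroup.mk_surjective x
    obtain ⟨m, hm⟩ := hB1 n.1 n.2
    refine ⟨m, ?_⟩
    rw [← QuotientGroup.mk_pow, QuotientGroup.eq_one_iff, hker, mem_subgroupOf]
    exact hm
  obtain ⟨m, hm⟩ := hPQ.exists_card_eq
  have hidx : (centralizer ((T : Subgroup G) : Set G)).relIndex
      (normalizer ((T : Subgroup G) : Set G)) = p ^ m := by
    rw [relIndex, ← hker, index_eq_card, hm]
  -- the number of involutions is a power of `p`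
  have hstab : (T : Subgroup G).normalizerMonoidHom.ker ≤
      MulAction.stabilizer ↥(normalizer ((T : Subgroup G) : Set G)) a0 := by
    intro n hn
    rw [MulAction.mem_stabilizer_iff]
    have h1 : (T : Subgroup G).normalizerMonoidHom n = 1 := hn
    have h2 : n • a0 = (T : Subgroup G).normalizerMonoidHom n a0 := rfl
    rw [h2, h1]
    rfl
  have hΩ : ∃ j ≤ m, {t : ↥(T : Subgroup G) | orderOf t = 2}.ncard = p ^ j := by
    have h1 := MulAction.index_stabilizer ↥(normalizer ((T : Subgroup G) : Set G)) a0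
    rw [horb] at h1
    have h2 := index_dvd_of_le hstab
    rw [hker, ← relIndex, hidx, h1] at h2
    exact (Nat.dvd_prime_pow hp).mp h2
  obtain ⟨j, hjm, hj⟩ := hΩ
  -- `2^k - 1 = p^j`
  have hAset : (A : Set ↥(T : Subgroup G)) = insert 1 {t : ↥(T : Subgroup G) | orderOf t = 2} := by
    ext t
    rw [SetLike.mem_coe, hA_mem, Set.mem_insert_iff, Set.mem_ofPred_eq, orderOf_eq_two_iff]
    constructor
    · intro h
      by_cases h1 : t = 1
      · exact Or.inl h1
      · exact Or.inr ⟨h, h1⟩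
    · rintro (rfl | h)
      · rw [mul_one]
      · exact h.1
  have hAn : Nat.card ↥A = (A : Set ↥(T : Subgroup G)).ncard :=
    Nat.card_coe_set_eq (A : Set ↥(T : Subgroup G))
  have hcount : 2 ^ k = p ^ j + 1 := by
    rw [← hkA, ← hj, hAn, hAset, Set.ncard_insert_of_notMem]
    intro h
    have h' : orderOf (1 : ↥(T : Subgroup G)) = 2 := h
    rw [orderOf_one] at h'
    omega
  obtain ⟨hj1, hp4⟩ := hNT k j hk3 (by omega)
  subst hj1
  rw [pow_one] at hcount hj
  -- exponent two
  have hsq : ∀ t ∈ T, t * t = 1 := by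
    intro t ht
    obtain ⟨e, he⟩ := (IsPGroup.iff_orderOf.mp T.2) ⟨t, ht⟩
    rw [Subgroup.orderOf_mk] at he
    have hdvd : orderOf t ∣ p - 1 := orderOf_dvd_of_pow_eq_one (hexp t ht)
    have he1 : e ≤ 1 := by
      by_contra hlt
      have h4 : 4 ∣ orderOf t := by
        rw [he]
        exact pow_dvd_pow 2 (show 2 ≤ e by omega)
      have h4' : 4 ∣ p - 1 := dvd_trans h4 hdvd
      have := hp.one_lt
      omega
    have h2 : orderOf t ∣ 2 := by
      rw [he]
      exact pow_dvd_pow 2 he1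
    rw [← pow_two]
    exact orderOf_dvd_iff_pow_eq_one.mp h2
  have hAtop : A = ⊤ := by
    rw [eq_top_iff]
    intro t _
    exact Subtype.ext (hsq t.1 t.2)
  have hTcard : Nat.card ↥(T : Subgroup G) = p + 1 := by
    rw [← hcount, ← hkA, hAtop, Subgroup.card_top]
  -- `|N(T) : C(T)| = p`
  have hm1 : m = 1 := by
    have h1 : Nat.card (↥(normalizer ((T : Subgroup G) : Set G)) ⧸
        (T : Subgroup G).normalizerMonoidHom.ker) ∣ Nat.card (MulAut ↥(T : Subgroup G)) :=
      card_dvd_of_injective _ (QuotientGroup.kerLift_injective (T : Subgroup G).normalizerMonoidHom)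
    have h2 : Nat.card (MulAut ↥(T : Subgroup G)) ∣ Nat.card (Equiv.Perm ↥(T : Subgroup G)) :=
      card_dvd_of_injective (MulAut.toPerm ↥(T : Subgroup G)) MulEquiv.toEquiv_injective
    rw [Nat.card_perm, hTcard] at h2
    rw [hm] at h1
    have h3 : p ^ m ∣ (p + 1).factorial := dvd_trans h1 h2
    by_contra hne
    have hm2 : 2 ≤ m := by omega
    exact not_sq_dvd_factorial hp (dvd_trans (pow_dvd_pow p hm2) h3)
  subst hm1
  rw [pow_one] at hidx
  refine ⟨hsq, hTcard, hidx, ?_⟩
  intro a ha ha1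
  apply le_antisymm
  · -- `N(T) ∩ C(a) ≤ C(T)` by counting
    have hCK : centralizer ((T : Subgroup G) : Set G) ≤
        normalizer ((T : Subgroup G) : Set G) ⊓ centralizer {a} :=
      le_inf (centralizer_le_normalizer _)
        (centralizer_le (Set.singleton_subset_iff.mpr ha))
    have hKN : normalizer ((T : Subgroup G) : Set G) ⊓ centralizer {a} ≤
        normalizer ((T : Subgroup G) : Set G) := inf_le_left
    have h1 := relIndex_mul_relIndex _ _ _ hCK hKN
    -- the stabilizer of `a`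
    have ha2 : orderOf (⟨a, ha⟩ : ↥(T : Subgroup G)) = 2 := by
      rw [Subgroup.orderOf_mk]
      exact (orderOf_eq_two_iff a).mpr ⟨hsq a ha, ha1⟩
    have hst : (normalizer ((T : Subgroup G) : Set G) ⊓ centralizer {a}).subgroupOf
        (normalizer ((T : Subgroup G) : Set G)) =
        MulAction.stabilizer ↥(normalizer ((T : Subgroup G) : Set G))
          (⟨a, ha⟩ : ↥(T : Subgroup G)) := by
      ext n
      rw [mem_subgroupOf, mem_inf, MulAction.mem_stabilizer_iff, mem_centralizer_singleton_iff]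
      constructor
      · rintro ⟨_, h⟩
        apply Subtype.ext
        rw [coe_smul]
        show (n : G) * a * (n : G)⁻¹ = a
        rw [h, mul_inv_cancel_right]
      · intro h
        refine ⟨n.2, ?_⟩
        have h' := congrArg Subtype.val h
        rw [coe_smul] at h'
        have h'' : (n : G) * a * (n : G)⁻¹ = a := h'
        rw [mul_inv_eq_iff_eq_mul] at h''
        exact h''
    have horb' : MulAction.orbit ↥(normalizer ((T : Subgroup G) : Set G))
        (⟨a, ha⟩ : ↥(T : Subgroup G)) = {t : ↥(T : Subgroup G) | orderOf t = 2} := by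
      rw [← horb]
      apply MulAction.orbit_eq_iff.mpr
      rw [horb]
      exact ha2
    have h2 : (normalizer ((T : Subgroup G) : Set G) ⊓ centralizer {a}).relIndex
        (normalizer ((T : Subgroup G) : Set G)) = p := by
      rw [relIndex, hst, MulAction.index_stabilizer, horb', hj]
    rw [h2, hidx] at h1
    have h3 : (centralizer ((T : Subgroup G) : Set G)).relIndex
        (normalizer ((T : Subgroup G) : Set G) ⊓ centralizer {a}) = 1 := by
      have hpos := hp.pos
      exact Nat.eq_of_mul_eq_mul_right hpos (by rw [h1, one_mul])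
    exact relIndex_eq_one.mp h3
  · exact le_inf (centralizer_le_normalizer _)
      (centralizer_le (Set.singleton_subset_iff.mpr ha))

/-- `N(T)` is transitive on the involutions of an abelian Sylow 2-subgroup `T` when all involutions of
`G` are conjugate (C1 of the sheet). -/
theorem normalizer_transitive_of (T : Sylow 2 G) (hTc : ∀ x ∈ T, ∀ y ∈ T, x * y = y * x)
    (hconj : ∀ a b : G, orderOf a = 2 → orderOf b = 2 → IsConj a b)
    (a b : G) (ha : a ∈ T) (hb : b ∈ T) (ha2 : orderOf a = 2) (hb2 : orderOf b = 2) :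
    ∃ n ∈ normalizer ((T : Subgroup G) : Set G), n * a * n⁻¹ = b := by
  obtain ⟨n, hn⟩ := exists_smul_eq T hTc ⟨a, ha⟩ ⟨b, hb⟩ (hconj a b ha2 hb2)
  refine ⟨n.1, n.2, ?_⟩
  have h := congrArg Subtype.val hn
  rw [coe_smul] at h
  exact h

/-- **[TSTR]** (C2–C5 of the S1936 sheet, without (★)). -/
theorem tstr_of (p : ℕ) [Fact p.Prime] (T : Sylow 2 G)
    (hTc : ∀ x ∈ T, ∀ y ∈ T, x * y = y * x)
    (hexp : ∀ t ∈ T, t ^ (p - 1) = 1)
    (hB1 : ∀ x ∈ normalizer ((T : Subgroup G) : Set G),
      ∃ n : ℕ, x ^ (p ^ n) ∈ centralizer ((T : Subgroup G) : Set G))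
    (hconj : ∀ a b : G, orderOf a = 2 → orderOf b = 2 → IsConj a b)
    (hk : 8 ≤ Nat.card {t : G // t ∈ T ∧ t * t = 1})
    (hNT : ∀ k j : ℕ, 3 ≤ k → 2 ^ k - 1 = p ^ j → j = 1 ∧ p % 4 = 3) :
    (∀ t ∈ T, t * t = 1) ∧ Nat.card ↥(T : Subgroup G) = p + 1 ∧
    (centralizer ((T : Subgroup G) : Set G)).relIndex (normalizer ((T : Subgroup G) : Set G)) = p ∧
    ∀ a ∈ T, a ≠ 1 → normalizer ((T : Subgroup G) : Set G) ⊓ centralizer {a} =
      centralizer ((T : Subgroup G) : Set G) :=
  tstr_core p T hTc hexp hB1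
    (fun a ha b hb ha2 hb2 => normalizer_transitive_of T hTc hconj a b ha hb ha2 hb2) hk hNT

end Cfsg.Agent.Lib.Helper75.S1936Tstr
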