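import Mathlib
import Cfsg.Agent.Lib.Helper22.S1936Defs
import Cfsg.Agent.Lib.Helper81.S1936NT
import Cfsg.Agent.Lib.Helper75.S1936.Tstr

/-!
# S1936, modules TSTR-[ELEM] and TSTR-[REG] (helper75), in `_of` form

`sylow_two_elementary_of` and `centralizer_inf_normalizer_of` have the exact conclusions (and hypotheses)
of the skeleton `notes/helper22_S1936_modules.lean.txt`, plus the statements of SIGF-[NC] / SIGF-[RK] as
extra hypotheses.
-/

set_option autoImplicit false
universe u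

namespace Cfsg.Agent.Lib.Helper75.S1936

open Cfsg.Agent.Lib.Helper22.S1936 Cfsg.Agent.Lib.Helper75.S1936Tstr

variable {G : Type u} [Group G] [Finite G] {p : ℕ} [Fact p.Prime]

/-- A Sylow 2-subgroup has order prime to `p` for `p ≥ 5`. -/
theorem sylow_two_coprime (hp5 : 5 ≤ p) (T : Sylow 2 G) :
    (Nat.card ↥(T : Subgroup G)).Coprime p := by
  have hp : p.Prime := Fact.out
  obtain ⟨n, hn⟩ := T.2.exists_card_eq
  rw [hn]
  apply Nat.Coprime.pow_left
  rw [Nat.coprime_primes Nat.prime_two hp]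
  omega

theorem sylow_two_comm (hG : MinCE p G) (T : Sylow 2 G) :
    ∀ x ∈ (T : Subgroup G), ∀ y ∈ (T : Subgroup G), x * y = y * x := by
  intro x hx y hy
  have h := (hG.hp (T : Subgroup G) (sylow_two_coprime hG.hp5 T)).1
  exact congrArg Subtype.val (h.is_comm.comm ⟨x, hx⟩ ⟨y, hy⟩)

theorem sylow_two_exp (hG : MinCE p G) (T : Sylow 2 G) :
    ∀ t ∈ (T : Subgroup G), t ^ (p - 1) = 1 :=
  (hG.hp (T : Subgroup G) (sylow_two_coprime hG.hp5 T)).2

/-- From the index statement [NC] to the element-wise form. -/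
theorem pow_mem_centralizer_of_index (T : Sylow 2 G)
    (hNC : ∃ n : ℕ, 0 < n ∧
      (Subgroup.centralizer ((T : Subgroup G) : Set G)).relIndex
        (Subgroup.normalizer ((T : Subgroup G) : Set G)) = p ^ n) :
    ∀ x ∈ Subgroup.normalizer ((T : Subgroup G) : Set G),
      ∃ n : ℕ, x ^ (p ^ n) ∈ Subgroup.centralizer ((T : Subgroup G) : Set G) := by
  obtain ⟨n, _, hn⟩ := hNC
  intro x hx
  refine ⟨n, ?_⟩
  have hnorm : ((Subgroup.centralizer ((T : Subgroup G) : Set G)).subgroupOf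
      (Subgroup.normalizer ((T : Subgroup G) : Set G))).Normal := by
    rw [← Subgroup.normalizerMonoidHom_ker]
    exact MonoidHom.normal_ker _
  have h := Subgroup.pow_index_mem ((Subgroup.centralizer ((T : Subgroup G) : Set G)).subgroupOf
      (Subgroup.normalizer ((T : Subgroup G) : Set G))) ⟨x, hx⟩
  rw [← Subgroup.relIndex, hn, Subgroup.mem_subgroupOf] at h
  exact h

theorem nt_hyp : ∀ k j : ℕ, 3 ≤ k → 2 ^ k - 1 = p ^ j → j = 1 ∧ p % 4 = 3 := by
  intro k j hk h
  obtain ⟨h1, h2, _⟩ := Cfsg.Agent.Lib.Helper81.S1936NT.two_pow_sub_one_eq_prime_pow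
    (Fact.out : p.Prime) hk h
  exact ⟨h1, by omega⟩

/-- TSTR-[ELEM] (C2–C4), with the statements of [NC] and [RK] as hypotheses. -/
theorem sylow_two_elementary_of (hG : MinCE p G) (T : Sylow 2 G)
    (hNC : ∃ n : ℕ, 0 < n ∧
      (Subgroup.centralizer ((T : Subgroup G) : Set G)).relIndex
        (Subgroup.normalizer ((T : Subgroup G) : Set G)) = p ^ n)
    (hRK : 8 ≤ Nat.card ↥(omega1 (T : Subgroup G)))
    (htr : ∀ a ∈ (T : Subgroup G), ∀ b ∈ (T : Subgroup G), orderOf a = 2 → orderOf b = 2 →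
      ∃ n ∈ Subgroup.normalizer ((T : Subgroup G) : Set G), n * a * n⁻¹ = b) :
    (∀ t ∈ (T : Subgroup G), t ^ 2 = 1) ∧ Nat.card ↥(T : Subgroup G) = p + 1 := by
  have hTc := sylow_two_comm hG T
  have hk : 8 ≤ Nat.card {t : G // t ∈ T ∧ t * t = 1} := by
    have he : Nat.card ↥(omega1 (T : Subgroup G)) = Nat.card {t : G // t ∈ T ∧ t * t = 1} := by
      apply Nat.card_congr
      apply Equiv.subtypeEquivRight
      intro t
      rw [mem_omega1 (T : Subgroup G) hTc, pow_two]
      rfl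
    rw [← he]
    exact hRK
  obtain ⟨h1, h2, _, _⟩ := tstr_core p T hTc (sylow_two_exp hG T)
    (pow_mem_centralizer_of_index T hNC) htr hk nt_hyp
  exact ⟨fun t ht => by rw [pow_two]; exact h1 t ht, h2⟩

/-- TSTR-[REG] (C5), with the statement of [NC] as a hypothesis. -/
theorem centralizer_inf_normalizer_of (hG : MinCE p G) (T : Sylow 2 G)
    (hNC : ∃ n : ℕ, 0 < n ∧
      (Subgroup.centralizer ((T : Subgroup G) : Set G)).relIndex
        (Subgroup.normalizer ((T : Subgroup G) : Set G)) = p ^ n)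
    (helem : ∀ t ∈ (T : Subgroup G), t ^ 2 = 1) (hcard : Nat.card ↥(T : Subgroup G) = p + 1)
    (htr : ∀ a ∈ (T : Subgroup G), ∀ b ∈ (T : Subgroup G), a ≠ 1 → b ≠ 1 →
      ∃ n ∈ Subgroup.normalizer ((T : Subgroup G) : Set G), n * a * n⁻¹ = b) :
    (Subgroup.centralizer ((T : Subgroup G) : Set G)).relIndex
        (Subgroup.normalizer ((T : Subgroup G) : Set G)) = p ∧
      ∀ a ∈ (T : Subgroup G), a ≠ 1 →
        Subgroup.centralizer ({a} : Set G) ⊓ Subgroup.normalizer ((T : Subgroup G) : Set G) =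
          Subgroup.centralizer ((T : Subgroup G) : Set G) := by
  have hTc := sylow_two_comm hG T
  have htr' : ∀ a ∈ (T : Subgroup G), ∀ b ∈ (T : Subgroup G), orderOf a = 2 → orderOf b = 2 →
      ∃ n ∈ Subgroup.normalizer ((T : Subgroup G) : Set G), n * a * n⁻¹ = b := by
    intro a ha b hb ha2 hb2
    exact htr a ha b hb (((orderOf_eq_two_iff a).mp ha2).2) (((orderOf_eq_two_iff b).mp hb2).2)
  have hk : 8 ≤ Nat.card {t : G // t ∈ T ∧ t * t = 1} := by
    have he : Nat.card {t : G // t ∈ T ∧ t * t = 1} = Nat.card ↥(T : Subgroup G) := by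
      apply Nat.card_congr
      apply Equiv.subtypeEquivRight
      intro t
      constructor
      · exact fun h => h.1
      · exact fun h => ⟨h, by rw [← pow_two]; exact helem t h⟩
    rw [he]
    obtain ⟨n, hn⟩ := T.2.exists_card_eq
    have hp5 := hG.hp5
    rw [hn]
    rw [hn] at hcard
    by_contra hlt
    have hn2 : n ≤ 2 := by
      by_contra h3
      have : 2 ^ 3 ≤ 2 ^ n := Nat.pow_le_pow_right (by norm_num) (by omega)
      omega
    have : 2 ^ n ≤ 2 ^ 2 := Nat.pow_le_pow_right (by norm_num) hn2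
    omega
  obtain ⟨_, _, h3, h4⟩ := tstr_core p T hTc (sylow_two_exp hG T)
    (pow_mem_centralizer_of_index T hNC) htr' hk nt_hyp
  refine ⟨h3, fun a ha ha1 => ?_⟩
  rw [inf_comm]
  exact h4 a ha ha1

end Cfsg.Agent.Lib.Helper75.S1936
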