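import Mathlib
import Cfsg.Agent.Lib.Helper22.S1936Defs
import Cfsg.Agent.Lib.Helper93.S1936SigF
import Cfsg.Agent.Lib.Helper75.S1936.ElemReg

/-!
# S1936, modules TSTR-[ELEM] and TSTR-[REG] (helper75): the exact skeleton statements

From `ElemReg.lean` and helper93's SIGF-[NC], SIGF-[RK].
-/

set_option autoImplicit false
universe u

namespace Cfsg.Agent.Lib.Helper75.S1936

open Cfsg.Agent.Lib.Helper22.S1936

variable {G : Type u} [Group G] [Finite G] {p : ℕ} [Fact p.Prime]

/-- TSTR-[ELEM] (C2–C4): `T` is elementary abelian of order `p + 1`. -/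
theorem sylow_two_elementary (hG : MinCE p G) (T : Sylow 2 G)
    (htr : ∀ a ∈ (T : Subgroup G), ∀ b ∈ (T : Subgroup G), orderOf a = 2 → orderOf b = 2 →
      ∃ n ∈ Subgroup.normalizer ((T : Subgroup G) : Set G), n * a * n⁻¹ = b) :
    (∀ t ∈ (T : Subgroup G), t ^ 2 = 1) ∧ Nat.card ↥(T : Subgroup G) = p + 1 :=
  sylow_two_elementary_of hG T (Cfsg.Agent.Lib.Helper93.S1936.normalizer_centralizer_index hG T)
    (Cfsg.Agent.Lib.Helper93.S1936.card_omega1_ge hG T) htr

/-- TSTR-[REG] (C5): `|N(T):C(T)| = p` and point stabilizers are `C(T)`. -/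
theorem centralizer_inf_normalizer (hG : MinCE p G) (T : Sylow 2 G)
    (helem : ∀ t ∈ (T : Subgroup G), t ^ 2 = 1) (hcard : Nat.card ↥(T : Subgroup G) = p + 1)
    (htr : ∀ a ∈ (T : Subgroup G), ∀ b ∈ (T : Subgroup G), a ≠ 1 → b ≠ 1 →
      ∃ n ∈ Subgroup.normalizer ((T : Subgroup G) : Set G), n * a * n⁻¹ = b) :
    (Subgroup.centralizer ((T : Subgroup G) : Set G)).relIndex
        (Subgroup.normalizer ((T : Subgroup G) : Set G)) = p ∧
      ∀ a ∈ (T : Subgroup G), a ≠ 1 →
        Subgroup.centralizer ({a} : Set G) ⊓ Subgroup.normalizer ((T : Subgroup G) : Set G) =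
          Subgroup.centralizer ((T : Subgroup G) : Set G) :=
  centralizer_inf_normalizer_of hG T
    (Cfsg.Agent.Lib.Helper93.S1936.normalizer_centralizer_index hG T) helem hcard htr

end Cfsg.Agent.Lib.Helper75.S1936
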